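import Groth.Agent.Lib.NormFib.Normal
import Groth.Agent.Lib.TotalFrac.Normal

/-!
# Universal property of the normalization of an integral scheme
-/

universe u

open CategoryTheory CategoryTheory.Limits AlgebraicGeometry TopologicalSpace
open scoped nonZeroDivisors

set_option backward.isDefEq.respectTransparency false

namespace GrothLib.NormFac9

open NormFib

variable {X : Scheme.{u}} [IsIntegral X]
  {Z : Scheme.{u}} (g : Z ⟶ X) (hZ : Pi1.IsNormalScheme Z)
  (hdom : ∀ z : Z, closure {z} ∈ irreducibleComponents Z → g z = genericPoint X)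

include hdom in
theorem appLE_mem_nonZeroDivisors [IsReduced Z] {U : X.Opens} [Nonempty U] {V : Z.Opens}
    (e : V ≤ g ⁻¹ᵁ U) (b : Γ(X, U)) (hb : b ≠ 0) :
    g.appLE U V e b ∈ (Γ(Z, V))⁰ := by
  rw [mem_nonZeroDivisors_iff_right]
  intro d hd
  rw [← basicOpen_eq_bot_iff]
  refine eq_bot_iff.2 fun z hz ↦ ?_
  obtain ⟨z', hz'⟩ := QuasiSober.sober (α := Z) (isIrreducible_irreducibleComponent (x := z))
    isClosed_irreducibleComponent
  have hcomp : closure {z'} ∈ irreducibleComponents Z := by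
    rw [hz'.def]
    exact irreducibleComponent_mem_irreducibleComponents z
  have hsp : z' ⤳ z := hz'.specializes mem_irreducibleComponent
  have hd' : z' ∈ Z.basicOpen d := hsp.mem_open (Z.basicOpen d).2 hz
  have hzV : z' ∈ V := Z.basicOpen_le d hd'
  have hc : z' ∈ Z.basicOpen (g.appLE U V e b) := by
    rw [Scheme.Hom.appLE, CommRingCat.comp_apply, Scheme.basicOpen_res]
    refine ⟨hzV, ?_⟩
    rw [← Scheme.preimage_basicOpen]
    show g z' ∈ X.basicOpen b
    rw [hdom z' hcomp]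
    have hne : X.basicOpen b ≠ ⊥ := mt (basicOpen_eq_bot_iff b).1 hb
    obtain ⟨x, hx⟩ : ((X.basicOpen b : X.Opens) : Set X).Nonempty := by
      by_contra h
      exact hne (SetLike.coe_injective (Set.not_nonempty_iff_eq_empty.1 h))
    exact (genericPoint_specializes x).mem_open (X.basicOpen b).2 hx
  have : z' ∈ Z.basicOpen (d * g.appLE U V e b) := by
    rw [Scheme.basicOpen_mul]
    exact ⟨hd', hc⟩
  rw [hd, Scheme.basicOpen_zero] at this
  exact this.elim

include hZ in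
theorem isIntegrallyClosedIn_sections {V : Z.Opens} (hV : IsAffineOpen V) :
    IsIntegrallyClosedIn Γ(Z, V) (FractionRing Γ(Z, V)) := by
  refine TotalFrac.isIntegrallyClosedIn_of_normal _ fun p hp ↦ ?_
  let z := hV.fromSpec ⟨p, hp⟩
  have hzV : z ∈ V := hV.range_fromSpec.le ⟨⟨p, hp⟩, rfl⟩
  let _ := TopCat.Presheaf.algebra_section_stalk Z.presheaf (⟨z, hzV⟩ : V)
  have := hV.isLocalization_stalk' ⟨p, hp⟩ hzV
  let e : Localization.AtPrime p ≃ₐ[Γ(Z, V)] Z.presheaf.stalk z :=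
    IsLocalization.algEquiv p.primeCompl _ _
  obtain ⟨h1, h2⟩ := hZ z
  exact ⟨e.toRingEquiv.injective.isDomain e.toRingEquiv.toRingHom,
    IsIntegrallyClosed.of_equiv e.toRingEquiv.symm⟩

include hZ in
theorem isReduced_of_isNormal : IsReduced Z :=
  have : ∀ z : Z, _root_.IsReduced (Z.presheaf.stalk z) := fun z ↦
    have := (hZ z).1
    inferInstance
  isReduced_of_isReduced_stalk Z

variable [QuasiCompact (X.fromSpecStalk (genericPoint X))]
  [QuasiSeparated (X.fromSpecStalk (genericPoint X))]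

include hdom hZ in
theorem existsUnique_ringHom {U : X.Opens} (hU : IsAffineOpen U) [Nonempty U] {V : Z.Opens}
    (hV : IsAffineOpen V) (e : V ≤ g ⁻¹ᵁ U) :
    ∃! φ : Γ(Curv2.normalization X, pre U) ⟶ Γ(Z, V),
      (Curv2.normalizationι X).app U ≫ φ = g.appLE U V e := by
  let _ := chartAlgebra U
  obtain ⟨_, htow, hic⟩ := exists_chart hU
  have := isReduced_of_isNormal hZ
  have hS := isIntegrallyClosedIn_sections hZ hV
  let R := Γ(X, U)
  let R' := Γ(Curv2.normalization X, pre U)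
  let S := Γ(Z, V)
  let K := X.functionField
  have := functionField_isFractionRing_of_isAffineOpen X U hU
  have hinj : Function.Injective (algebraMap R' K) :=
    IsIntegralClosure.algebraMap_injective R' R K
  let ψ : R →+* S := (g.appLE U V e).hom
  have hnz : ∀ b : R⁰, ψ b ∈ S⁰ := fun b ↦
    appLE_mem_nonZeroDivisors g hdom e b (nonZeroDivisors.ne_zero b.2)
  let Φ : K →+* FractionRing S := IsLocalization.lift (M := R⁰)
    (g := (algebraMap S (FractionRing S)).comp ψ)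
    fun b ↦ IsLocalization.map_units (FractionRing S) ⟨ψ b, hnz b⟩
  have hΦ : ∀ a, Φ (algebraMap R K a) = algebraMap S (FractionRing S) (ψ a) :=
    fun a ↦ IsLocalization.lift_eq _ a
  let χ : R' →+* FractionRing S := Φ.comp (algebraMap R' K)
  have hχ : ∀ a, χ (algebraMap R R' a) = algebraMap S (FractionRing S) (ψ a) := fun a ↦ by
    show Φ (algebraMap R' K (algebraMap R R' a)) = _
    rw [← IsScalarTower.algebraMap_apply R R' K, hΦ]
  have hmem : ∀ w, ∃ s, algebraMap S (FractionRing S) s = χ w := fun w ↦ by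
    obtain ⟨P, hP, hPw⟩ := (IsIntegralClosure.isIntegral_iff (R := R) (A := R')).2
      (⟨w, rfl⟩ : ∃ y, algebraMap R' K y = algebraMap R' K w)
    refine IsIntegrallyClosedIn.isIntegral_iff.1 ⟨P.map ψ, hP.map _, ?_⟩
    rw [Polynomial.eval₂_map, show (algebraMap S (FractionRing S)).comp ψ = Φ.comp (algebraMap R K)
      from RingHom.ext fun a ↦ (hΦ a).symm]
    show Polynomial.eval₂ _ (Φ (algebraMap R' K w)) P = 0
    rw [← Polynomial.hom_eval₂, hPw, map_zero]
  choose s hs using hmem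
  have hSinj : Function.Injective (algebraMap S (FractionRing S)) := IsFractionRing.injective _ _
  let φ : R' →+* S :=
    { toFun := s
      map_one' := hSinj (by rw [hs, map_one, map_one])
      map_mul' := fun a b ↦ hSinj (by rw [map_mul, hs, hs, hs, map_mul])
      map_zero' := hSinj (by rw [hs, map_zero, map_zero])
      map_add' := fun a b ↦ hSinj (by rw [map_add, hs, hs, hs, map_add]) }
  refine ⟨CommRingCat.ofHom φ, CommRingCat.hom_ext (RingHom.ext fun a ↦ hSinj ?_), fun φ' hφ' ↦ ?_⟩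
  · show algebraMap S (FractionRing S) (s (algebraMap R R' a)) = _
    rw [hs, hχ]
  · refine CommRingCat.hom_ext (RingHom.ext fun w ↦ hSinj ?_)
    obtain ⟨⟨a, b⟩, hab⟩ := IsLocalization.surj R⁰ (algebraMap R' K w)
    have h' : w * algebraMap R R' b = algebraMap R R' a := hinj (by
      rw [map_mul, ← IsScalarTower.algebraMap_apply, ← IsScalarTower.algebraMap_apply]
      exact hab)
    have hφ'a : ∀ a, φ'.hom (algebraMap R R' a) = ψ a :=
      fun a ↦ congrArg (fun q : R ⟶ S ↦ q.hom a) hφ'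
    refine (IsLocalization.map_units (FractionRing S) ⟨ψ b, hnz b⟩).mul_right_cancel ?_
    show algebraMap S _ (φ'.hom w) * algebraMap S _ (ψ b) =
      algebraMap S _ (s w) * algebraMap S _ (ψ b)
    rw [hs, ← hχ b]
    conv_lhs => rw [hχ b, ← hφ'a, ← map_mul, ← map_mul, h', hφ'a, ← hχ]
    rw [← map_mul, h']

include hdom hZ in
/-- Over an affine chart, factorisations through the normalization exist and are unique. -/
theorem existsUnique_fac_chart {U : X.Opens} (hU : IsAffineOpen U) [Nonempty U] {V : Z.Opens}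
    (hV : IsAffineOpen V) (e : V ≤ g ⁻¹ᵁ U) :
    ∃! k : Spec Γ(Z, V) ⟶ Curv2.normalization X, k ≫ Curv2.normalizationι X = hV.fromSpec ≫ g := by
  obtain ⟨φ, hφ, huniq⟩ := existsUnique_ringHom g hZ hdom hU hV e
  have hP := isAffineOpen_pre (X := X) hU
  have hcomp : ∀ φ' : Γ(Curv2.normalization X, pre U) ⟶ Γ(Z, V),
      (Spec.map φ' ≫ hP.fromSpec) ≫ Curv2.normalizationι X =
        Spec.map ((Curv2.normalizationι X).app U ≫ φ') ≫ hU.fromSpec := fun φ' ↦ by
    rw [Category.assoc, ← IsAffineOpen.SpecMap_appLE_fromSpec (Curv2.normalizationι X) hU hP le_rfl,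
      ← Scheme.Hom.app_eq_appLE, Spec.map_comp, Category.assoc]
  have hrhs : hV.fromSpec ≫ g = Spec.map (g.appLE U V e) ≫ hU.fromSpec :=
    (IsAffineOpen.SpecMap_appLE_fromSpec g hU hV e).symm
  refine ⟨Spec.map φ ≫ hP.fromSpec, ((hcomp φ).trans (by rw [hφ])).trans hrhs.symm, fun k hk ↦ ?_⟩
  have hrange : Set.range k ⊆ Set.range hP.fromSpec := by
    rw [hP.range_fromSpec]
    rintro _ ⟨p, rfl⟩
    show (k ≫ Curv2.normalizationι X) p ∈ U
    rw [hk]
    exact e (hV.range_fromSpec.le ⟨p, rfl⟩)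
  let φ' := Spec.preimage (IsOpenImmersion.lift hP.fromSpec k hrange)
  have hkf : k = Spec.map φ' ≫ hP.fromSpec := by
    rw [Spec.map_preimage, IsOpenImmersion.lift_fac]
  rw [hkf, huniq φ' (Spec.map_injective ((cancel_mono hU.fromSpec).1 ?_))]
  rw [← hrhs, ← hk, hkf, hcomp]

/-- Affine opens of `Z` mapping into affine charts of `X`. -/
abbrev Chart := {p : X.affineOpens × Z.affineOpens //
  Nonempty p.1.1 ∧ p.2.1 ≤ g ⁻¹ᵁ p.1.1}

theorem exists_chart_mem (z : Z) {W : Z.Opens} (hz : z ∈ W) :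
    ∃ c : Chart g, z ∈ c.1.2.1 ∧ c.1.2.1 ≤ W := by
  obtain ⟨U, hU, hzU, -⟩ := exists_isAffineOpen_mem_and_subset (Opens.mem_top (g z))
  obtain ⟨V, hV, hzV, hVU⟩ := exists_isAffineOpen_mem_and_subset
    (show z ∈ g ⁻¹ᵁ U ⊓ W from ⟨hzU, hz⟩)
  exact ⟨⟨(⟨U, hU⟩, ⟨V, hV⟩), ⟨⟨_, hzU⟩⟩, hVU.trans inf_le_left⟩, hzV, hVU.trans inf_le_right⟩

include hdom hZ in
theorem hom_ext {W : Scheme.{u}} (j : W ⟶ Z) [IsOpenImmersion j]
    {h h' : W ⟶ Curv2.normalization X} (he : h ≫ Curv2.normalizationι X = j ≫ g)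
    (he' : h' ≫ Curv2.normalizationι X = j ≫ g) : h = h' := by
  let 𝒰 : W.OpenCover := W.openCoverOfIsOpenCover
    (fun c : {c : Chart g // c.1.2.1 ≤ j.opensRange} ↦ j ⁻¹ᵁ c.1.1.2.1) (by
      refine eq_top_iff.2 fun w _ ↦ ?_
      obtain ⟨c, hc, hcW⟩ := exists_chart_mem g (j w) (W := j.opensRange) ⟨w, rfl⟩
      exact Opens.mem_iSup.2 ⟨⟨c, hcW⟩, hc⟩)
  refine 𝒰.hom_ext _ _ fun ⟨⟨⟨⟨U, hU⟩, ⟨V, hV⟩⟩, hne, e⟩, hle⟩ ↦ ?_
  have : Nonempty (U : X.Opens) := hne
  have hle' : Set.range hV.fromSpec ⊆ Set.range j := by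
    rw [hV.range_fromSpec]; exact hle
  let t : Spec Γ(Z, V) ⟶ W := IsOpenImmersion.lift j hV.fromSpec hle'
  have hk : ∀ k : W ⟶ Curv2.normalization X, k ≫ Curv2.normalizationι X = j ≫ g →
      (t ≫ k) ≫ Curv2.normalizationι X = hV.fromSpec ≫ g := fun k hk ↦ by
    rw [Category.assoc, hk, IsOpenImmersion.lift_fac_assoc]
  have ht := (existsUnique_fac_chart g hZ hdom hU hV e).unique (hk h he) (hk h' he')
  show (j ⁻¹ᵁ V).ι ≫ h = (j ⁻¹ᵁ V).ι ≫ h'
  have hr : Set.range (j ⁻¹ᵁ V).ι ⊆ Set.range t := by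
    rintro _ ⟨w, rfl⟩
    obtain ⟨p, hp⟩ := hV.range_fromSpec.ge w.2
    refine ⟨p, j.isOpenEmbedding.injective ?_⟩
    show (t ≫ j) p = j w.1
    rw [IsOpenImmersion.lift_fac]
    exact hp
  rw [← IsOpenImmersion.lift_fac t (j ⁻¹ᵁ V).ι hr, Category.assoc, Category.assoc, ht]

include hdom hZ in
theorem existsUnique_fac :
    ∃! h : Z ⟶ Curv2.normalization X, h ≫ Curv2.normalizationι X = g := by
  have hch : ∀ c : Chart g, ∃ k : Spec Γ(Z, c.1.2.1) ⟶ Curv2.normalization X,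
      k ≫ Curv2.normalizationι X = c.1.2.2.fromSpec ≫ g := fun c ↦
    have := c.2.1
    (existsUnique_fac_chart g hZ hdom c.1.1.2 c.1.2.2 c.2.2).exists
  choose k hk using hch
  let 𝒰 : Z.OpenCover :=
    { I₀ := Chart g
      X := fun c ↦ Spec Γ(Z, c.1.2.1)
      f := fun c ↦ c.1.2.2.fromSpec
      mem₀ := by
        rw [Scheme.presieve₀_mem_precoverage_iff]
        refine ⟨fun z ↦ ?_, fun c ↦ inferInstance⟩
        obtain ⟨c, hc, -⟩ := exists_chart_mem g z (W := ⊤) trivial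
        exact ⟨c, c.1.2.2.range_fromSpec.ge hc⟩ }
  let h := 𝒰.glueMorphisms k fun c d ↦ hom_ext g hZ hdom
    (pullback.fst (𝒰.f c) (𝒰.f d) ≫ 𝒰.f c) ((Category.assoc _ _ _).trans
      ((congrArg (pullback.fst (𝒰.f c) (𝒰.f d) ≫ ·) (hk c)).trans (Category.assoc _ _ _).symm))
      ((Category.assoc _ _ _).trans ((congrArg (pullback.snd (𝒰.f c) (𝒰.f d) ≫ ·) (hk d)).trans
        (by rw [← Category.assoc, pullback.condition])))
  refine ⟨h, 𝒰.hom_ext _ _ fun c ↦ ?_, fun h' hh' ↦ hom_ext g hZ hdom (𝟙 Z)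
    (by rw [Category.id_comp]; exact hh') (?_ : h ≫ _ = _)⟩
  · rw [← Category.assoc, 𝒰.ι_glueMorphisms]
    exact hk c
  · rw [Category.id_comp]
    refine 𝒰.hom_ext _ _ fun c ↦ ?_
    rw [← Category.assoc, 𝒰.ι_glueMorphisms]
    exact hk c

end GrothLib.NormFac9
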